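import Groth.Agent.Lib.CAlgLow.N1Loc
import Groth.Agent.Lib.NormFin18.Nagata
import Mathlib

/-!
# Japanese and Nagata rings are local for the Zariski topology
-/

universe u

namespace Groth.Agent.PropsNagata1

theorem isN2_of_span {R : Type u} [CommRing R] [IsDomain R] (s : Finset R)
    (hs : Ideal.span (s : Set R) = ⊤)
    (h : ∀ f ∈ s, f ≠ 0 → ∀ (S : Type u) [CommRing S] [IsDomain S] [Algebra R S] [IsLocalization.Away f S],
      CAlg.IsN2 S) : CAlg.IsN2 R := by
  classical
  intro L _ _ _ _ hfd
  let N := integralClosure R L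
  have hgen : ∀ f : s, ∃ t : Finset N, ∀ z : N, ∃ n : ℕ, (f : R) ^ n • z ∈ Submodule.span R (t : Set N) := by
    rintro ⟨f, hfs⟩
    by_cases hf : f = 0
    · exact ⟨∅, fun z => ⟨1, by simp [hf]⟩⟩
    haveI : IsDomain (Localization.Away f) :=
      IsLocalization.isDomain_localization (powers_le_nonZeroDivisors_of_noZeroDivisors hf)
    obtain ⟨_, _, _⟩ := CAlgLow.exists_lift_fractionRing (R := R) (S := Localization.Away f) (Submonoid.powers f)
    let S := Localization.Away f
    let e := FractionRing.algEquiv S (FractionRing R)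
    letI : Algebra (FractionRing S) L := ((algebraMap (FractionRing R) L).comp e.toRingEquiv.toRingHom).toAlgebra
    letI : Algebra S L := ((algebraMap (FractionRing R) L).comp (algebraMap S (FractionRing R))).toAlgebra
    haveI : IsScalarTower S (FractionRing S) L := IsScalarTower.of_algebraMap_eq fun x => by
      show algebraMap (FractionRing R) L (algebraMap S (FractionRing R) x) =
        algebraMap (FractionRing R) L (e (algebraMap S (FractionRing S) x))
      rw [AlgEquiv.commutes]
    haveI : IsScalarTower R S L := IsScalarTower.of_algebraMap_eq fun r => by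
      show algebraMap R L r = algebraMap (FractionRing R) L (algebraMap S (FractionRing R) (algebraMap R S r))
      rw [← IsScalarTower.algebraMap_apply R S (FractionRing R), ← IsScalarTower.algebraMap_apply]
    haveI : FiniteDimensional (FractionRing S) L := by
      obtain ⟨t, ht⟩ := hfd.fg_top
      refine ⟨⟨t, eq_top_iff.2 fun x hxt => ?_⟩⟩
      clear hxt
      have hx : x ∈ Submodule.span (FractionRing R) (t : Set L) := ht ▸ Submodule.mem_top
      induction hx using Submodule.span_induction with
      | mem y hy => exact Submodule.subset_span hy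
      | zero => exact zero_mem _
      | add a b _ _ ha hb => exact add_mem ha hb
      | smul c a _ ha =>
        have := Submodule.smul_mem (Submodule.span (FractionRing S) (t : Set L)) (e.symm c) ha
        rwa [Algebra.smul_def, show algebraMap (FractionRing S) L (e.symm c) =
          algebraMap (FractionRing R) L (e (e.symm c)) from rfl, AlgEquiv.apply_symm_apply,
          ← Algebra.smul_def] at this
    have hfin : Module.Finite S (integralClosure S L) := h f hfs hf S L inferInstance
    obtain ⟨G, hG⟩ := hfin.fg_top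
    have hscale : ∀ g : G, ∃ n : ℕ, IsIntegral R (f ^ n • ((g : integralClosure S L) : L)) := fun g => by
      obtain ⟨⟨_, n, rfl⟩, hm⟩ := IsIntegral.exists_multiple_integral_of_isLocalization
        (Submonoid.powers f) (Rₘ := S) _ g.1.2
      exact ⟨n, hm⟩
    choose m hm using hscale
    refine ⟨Finset.univ.image fun g : G => (⟨_, hm g⟩ : N), fun z => ?_⟩
    let φ : integralClosure S L →ₗ[S] L := (integralClosure S L).val.toLinearMap
    have hz : (z : L) ∈ Submodule.span S (φ '' (G : Set (integralClosure S L))) := by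
      rw [← Submodule.map_span, hG]
      exact ⟨⟨z, (z.2 : IsIntegral R (z : L)).tower_top⟩, trivial, rfl⟩
    rw [Set.image_eq_range] at hz
    obtain ⟨c, hc⟩ := (Submodule.mem_span_range_iff_exists_fun S).1 hz
    obtain ⟨⟨_, n, rfl⟩, hn⟩ := IsLocalization.exist_integer_multiples (Submonoid.powers f) Finset.univ c
    choose p hp using fun g => hn g (Finset.mem_univ g)
    let M := ∑ g : G, m g
    refine ⟨M + n, ?_⟩
    have key : f ^ (M + n) • z = ∑ g : G, (p g * f ^ (M - m g)) • (⟨_, hm g⟩ : N) := by
      apply Subtype.ext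
      rw [SetLike.val_smul, AddSubmonoidClass.coe_finsetSum, ← hc, pow_add, mul_smul, Finset.smul_sum,
        Finset.smul_sum]
      refine Finset.sum_congr rfl fun g _ => ?_
      rw [← smul_assoc (f ^ n), ← hp g, algebraMap_smul]
      show f ^ M • p g • ((g.1 : integralClosure S L) : L) =
        (p g * f ^ (M - m g)) • (f ^ m g • ((g.1 : integralClosure S L) : L))
      rw [smul_smul, smul_smul, mul_assoc, ← pow_add,
        Nat.sub_add_cancel (Finset.single_le_sum (fun i _ => Nat.zero_le (m i)) (Finset.mem_univ g)), mul_comm]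
    rw [key]
    exact Submodule.sum_mem _ fun g _ => Submodule.smul_mem _ _ (Submodule.subset_span (by simp))
  choose t ht using hgen
  refine ⟨⟨Finset.univ.biUnion t, eq_top_iff.2 fun z _ => ?_⟩⟩
  refine Submodule.mem_of_span_eq_top_of_smul_pow_mem _ (s : Set R) hs z fun f => ?_
  obtain ⟨n, hn⟩ := ht ⟨f.1, f.2⟩ z
  exact ⟨n, Submodule.span_mono (Finset.coe_subset.2 (Finset.subset_biUnion_of_mem t (Finset.mem_univ _))) hn⟩

theorem isN2_of_ringEquiv {A B : Type u} [CommRing A] [IsDomain A] [CommRing B] [IsDomain B] (e : A ≃+* B)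
    (h : CAlg.IsN2 A) : CAlg.IsN2 B := by
  letI := e.toRingHom.toAlgebra
  haveI : IsLocalization (⊥ : Submonoid A) A :=
    IsLocalization.self (by rintro _ (rfl : _ = (1 : A)); exact isUnit_one)
  haveI : IsLocalization (⊥ : Submonoid A) B :=
    IsLocalization.isLocalization_of_algEquiv _ (show A ≃ₐ[A] B from AlgEquiv.ofRingEquiv (f := e) fun _ => rfl)
  exact CAlgLow.isN2_of_isLocalization (⊥ : Submonoid A) h

theorem isNagata_of_span {R : Type u} [CommRing R] (s : Finset R) (hs : Ideal.span (s : Set R) = ⊤)
    (h : ∀ f ∈ s, CAlg.IsNagata (Localization.Away f)) : CAlg.IsNagata R := by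
  classical
  refine ⟨AlgebraicGeometry.isNoetherianRing_of_away s hs fun f => (h f.1 f.2).1, fun p _ => ?_⟩
  refine isN2_of_span (s.image (Ideal.Quotient.mk p)) ?_ fun g hg hg0 S _ _ _ _ => ?_
  · rw [Finset.coe_image, ← Ideal.map_span, hs, Ideal.map_top]
  obtain ⟨f, hf, rfl⟩ := Finset.mem_image.1 hg
  have hfp : f ∉ p := fun hfp => hg0 (Ideal.Quotient.eq_zero_iff_mem.2 hfp)
  let A := Localization.Away f
  let P := p.map (algebraMap R A)
  haveI : P.IsPrime := IsLocalization.isPrime_of_isPrime_disjoint (Submonoid.powers f) A p inferInstance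
    (Set.disjoint_left.2 fun x ⟨n, hn⟩ hxp => hfp ((inferInstance : p.IsPrime).mem_of_pow_mem n (hn.symm ▸ hxp :)))
  letI : Algebra (R ⧸ p) (A ⧸ P) := (Ideal.quotientMap P (algebraMap R A) Ideal.le_comap_map).toAlgebra
  haveI : IsLocalization ((Submonoid.powers f).map (Ideal.Quotient.mk p)) (A ⧸ P) :=
    IsLocalization.of_surjective (S := A) (Submonoid.powers f) (Ideal.Quotient.mk p) Ideal.Quotient.mk_surjective
      (Ideal.Quotient.mk P) Ideal.Quotient.mk_surjective (by
        ext r
        simp [RingHom.algebraMap_toAlgebra, Ideal.quotientMap_mk]) (by rw [Ideal.mk_ker, Ideal.mk_ker])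
  haveI : IsLocalization.Away (Ideal.Quotient.mk p f) (A ⧸ P) := by
    show IsLocalization (Submonoid.powers _) _
    rwa [← Submonoid.map_powers]
  exact isN2_of_ringEquiv (IsLocalization.algEquiv (Submonoid.powers (Ideal.Quotient.mk p f)) (A ⧸ P) S).toRingEquiv
    ((h f hf).2 P)

theorem isNagata_of_ringEquiv {A B : Type u} [CommRing A] [CommRing B] (e : A ≃+* B) (h : CAlg.IsNagata A) :
    CAlg.IsNagata B := by
  haveI := h.1
  refine ⟨isNoetherianRing_of_ringEquiv A e, fun p _ => ?_⟩
  haveI : (p.comap e).IsPrime := Ideal.IsPrime.comap e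
  exact isN2_of_ringEquiv (Ideal.quotientEquiv (p.comap e) p e
    (Ideal.map_comap_of_surjective (e : A →+* B) e.surjective p).symm) (h.2 _)

theorem isUniversallyJapanese_of_algebra {R S : Type u} [CommRing R] [CommRing S] [Algebra R S]
    [Algebra.FiniteType R S] (h : CAlg.IsUniversallyJapanese R) : CAlg.IsUniversallyJapanese S := by
  intro T _ _ _ hT
  letI : Algebra R T := ((algebraMap S T).comp (algebraMap R S)).toAlgebra
  haveI : IsScalarTower R S T := IsScalarTower.of_algebraMap_eq fun _ => rfl
  exact h T (Algebra.FiniteType.trans (R := R) (S := S) (A := T) inferInstance hT)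

theorem isUniversallyJapanese_of_span {R : Type u} [CommRing R] (s : Finset R)
    (hs : Ideal.span (s : Set R) = ⊤)
    (h : ∀ f ∈ s, CAlg.IsUniversallyJapanese (Localization.Away f)) : CAlg.IsUniversallyJapanese R := by
  classical
  intro T _ _ _ hT
  refine isN2_of_span (s.image (algebraMap R T)) ?_ fun g hg hg0 S _ _ _ _ => ?_
  · rw [Finset.coe_image, ← Ideal.map_span, hs, Ideal.map_top]
  obtain ⟨f, hf, rfl⟩ := Finset.mem_image.1 hg
  haveI : Algebra.FiniteType T S := IsLocalization.finiteType_of_monoid_fg (Submonoid.powers (algebraMap R T f)) S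
  letI : Algebra R S := ((algebraMap T S).comp (algebraMap R T)).toAlgebra
  haveI : IsScalarTower R T S := IsScalarTower.of_algebraMap_eq fun _ => rfl
  haveI : Algebra.FiniteType R S := Algebra.FiniteType.trans (R := R) (S := T) (A := S) hT inferInstance
  have hu : ∀ y : Submonoid.powers f, IsUnit (algebraMap R S y) := by
    rintro ⟨_, n, rfl⟩
    show IsUnit (algebraMap T S (algebraMap R T (f ^ n)))
    exact IsLocalization.map_units S (⟨_, n, (map_pow (algebraMap R T) f n).symm⟩ : Submonoid.powers (algebraMap R T f))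
  letI : Algebra (Localization.Away f) S := (IsLocalization.lift hu).toAlgebra
  haveI : IsScalarTower R (Localization.Away f) S :=
    IsScalarTower.of_algebraMap_eq fun r => (IsLocalization.lift_eq hu r).symm
  exact h f hf S (Algebra.FiniteType.of_restrictScalars_finiteType R (Localization.Away f) S)

end Groth.Agent.PropsNagata1
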